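import Cfsg.Agent.Lib.CosetEnum.Defs

/-! Generated table data. -/

set_option autoImplicit false
set_option maxRecDepth 20000

namespace Cfsg.Lib.CosetEnum.Fi24Y4

/-- Table data. -/
def tabF_0_0 : Tab :=
  (.node 1 (.leaf 0x880002260000000000780001e60000000000600001860000000000700001c70000000000580001670000000000480001270000000000380000e70000000000400001070000000000300000c70000000000280000a70000000000200000870000000000180000670000000000100000470000000000200000850000000000580001250000000000200000830000000000180000630000000000800001c60000000000680001660000000000100000430000000000100000440000000000a00002a70000000000980002470000000000880002070000000000780001a70000000000080000230000000000080000240000000000080000250000000000480000ea0000000000300000aa0000000000b80002ca00000000001000004a00000000000800002a00000000000000000a0000000000000000060000000000000000050000000000000000040000000000000000030000000000c80003430000000000c00003240000000000b80003050000000000a80002e60000000000980002c60000000000980002aa00000000009000028a0000000000880002650000000000800002450000000000780002240000000000680002040000000000600001e30000000000580001c40000000000500001a30000000000500001870000000000400001630000000000400001460000000000300001230000000000300001050000000000280000e30000000000200000c40000000000180000a400000000001800008a000000000010000065000000000008000046000000000000000027) (.leaf 0xd00003440000000000c00003030000000000b80002e30000000000b00002c30000000000a80002a30000000000980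002630000000000a00002830000000000900002430000000000880002230000000000800002030000000000700001c30000000000d00003470000000000c80003270000000000c00003070000000000b80002e70000000000b00002c70000000000a00002860000000000900002460000000000700001c50000000000480001240000000000380000e40000000000d00003450000000000c80003250000000000b80002e40000000000b00002c40000000000a80002a40000000000980002640000000000a00002840000000000900002440000000000600001840000000000500001440000000000400001040000000000d00003460000000000c80003260000000000c00003060000000000a80002a50000000000a000028500000000008800022a00000000008000020a0000000000700001ca0000000000780001ea0000000000680001aa00000000005800016a00000000006000018a00000000005000014a00000000004000010a0000000000380000e50000000000280000a50000000000d000034a0000000000c800032a0000000000c000030a0000000000b00002c50000000000780001e50000000000680001a50000000000600001850000000000500001450000000000480001260000000000380000e60000000000300000c60000000000280000a6000000000020000086000000000018000066))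

/-- Table data. -/
def tabF_0 : Tab :=
  tabF_0_0

end Cfsg.Lib.CosetEnum.Fi24Y4
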